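import Mathlib

/-!
# S4414 design (helper17): shared definitions

`V` normal abelian subgroup of `S`, `F` a field with enough roots of unity,
`r : Representation F S M`.  The characters `↥V →* Fˣ` carry the conjugation action of `S`;
`idem r V χ = ∑ v, χ(v⁻¹) • r v` is the (unnormalised) isotypic projection; `supp r V x` is the
set of characters `χ` with `idem r V χ x ≠ 0`; `fixT r T` is the fixed space of a subgroup `T`.
-/

set_option autoImplicit false

namespace Cfsg.Agent.Helper17.TQ

open scoped TensorProduct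

variable {S : Type*} [Group S] {F : Type*} [Field F] {M : Type*} [AddCommGroup M] [Module F M]

/-- the conjugation action of `S` on the characters of a normal subgroup `V`:
`(s • χ) v = χ (s⁻¹ v s)`. -/
noncomputable instance charAction (V : Subgroup S) [V.Normal] : MulAction S (↥V →* Fˣ) where
  smul s χ := χ.comp (MulAut.conjNormal (H := V) s⁻¹).toMonoidHom
  one_smul χ := by
    apply MonoidHom.ext
    intro v
    show χ ((MulAut.conjNormal (H := V) (1 : S)⁻¹) v) = χ v
    simp
  mul_smul s t χ := by
    apply MonoidHom.ext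
    intro v
    show χ ((MulAut.conjNormal (H := V) (s * t)⁻¹) v)
      = χ ((MulAut.conjNormal (H := V) t⁻¹) ((MulAut.conjNormal (H := V) s⁻¹) v))
    rw [mul_inv_rev, map_mul]
    rfl

theorem smul_char_apply (V : Subgroup S) [V.Normal] (s : S) (χ : ↥V →* Fˣ) (v : ↥V) :
    (s • χ) v = χ (MulAut.conjNormal (H := V) s⁻¹ v) := rfl

theorem smul_char_apply' (V : Subgroup S) [hV : V.Normal] (s : S) (χ : ↥V →* Fˣ) (v : ↥V) :
    (s • χ) v = χ ⟨s⁻¹ * (v : S) * s, by
      have := hV.conj_mem (v : S) v.2 s⁻¹
      simpa using this⟩ := by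
  rw [smul_char_apply]
  congr 1
  apply Subtype.ext
  simp

/-- the (unnormalised) projection onto the `χ`-isotypic part: `∑ v, χ(v⁻¹) • r v`. -/
noncomputable def idem (r : Representation F S M) (V : Subgroup S) [Fintype V]
    (χ : ↥V →* Fˣ) : M →ₗ[F] M :=
  ∑ v : V, ((χ v⁻¹ : Fˣ) : F) • r (v : S)

/-- the support of a vector: the characters whose projection does not kill it. -/
def supp (r : Representation F S M) (V : Subgroup S) [Fintype V] (x : M) : Set (↥V →* Fˣ) :=
  {χ | idem r V χ x ≠ 0}

theorem mem_supp (r : Representation F S M) (V : Subgroup S) [Fintype V] (x : M)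
    (χ : ↥V →* Fˣ) : χ ∈ supp r V x ↔ idem r V χ x ≠ 0 := Iff.rfl

/-- the fixed space of a subgroup `T`. -/
def fixT (r : Representation F S M) (T : Subgroup S) : Submodule F M where
  carrier := {x | ∀ t ∈ T, r t x = x}
  add_mem' := by
    intro a b ha hb t ht
    rw [map_add, ha t ht, hb t ht]
  zero_mem' := by
    intro t _
    exact map_zero _
  smul_mem' := by
    intro c x hx t ht
    rw [map_smul, hx t ht]

theorem mem_fixT (r : Representation F S M) (T : Subgroup S) (x : M) :
    x ∈ fixT r T ↔ ∀ t ∈ T, r t x = x := Iff.rfl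

/-- the vectors whose support lies in a given set `O` of characters. -/
def suppLE (r : Representation F S M) (V : Subgroup S) [Fintype V] (O : Set (↥V →* Fˣ)) :
    Submodule F M where
  carrier := {x | ∀ χ : ↥V →* Fˣ, χ ∉ O → idem r V χ x = 0}
  add_mem' := by
    intro a b ha hb χ hχ
    rw [map_add, ha χ hχ, hb χ hχ, add_zero]
  zero_mem' := by
    intro χ _
    exact map_zero _
  smul_mem' := by
    intro c x hx χ hχ
    rw [map_smul, hx χ hχ, smul_zero]

theorem mem_suppLE (r : Representation F S M) (V : Subgroup S) [Fintype V]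
    (O : Set (↥V →* Fˣ)) (x : M) :
    x ∈ suppLE r V O ↔ ∀ χ : ↥V →* Fˣ, χ ∉ O → idem r V χ x = 0 := Iff.rfl

theorem mem_suppLE_iff (r : Representation F S M) (V : Subgroup S) [Fintype V]
    (O : Set (↥V →* Fˣ)) (x : M) :
    x ∈ suppLE r V O ↔ supp r V x ⊆ O := by
  rw [mem_suppLE]
  constructor
  · intro h χ hχ
    by_contra hO
    exact hχ (h χ hO)
  · intro h χ hχ
    by_contra h0
    exact hχ (h h0)

/-- base change of an `𝔽₂`-representation to a field `F ⊇ 𝔽₂`. -/
noncomputable def bc (F : Type*) [Field F] [Algebra (ZMod 2) F] {E : Type*} [AddCommGroup E]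
    [Module (ZMod 2) E] (ρ : Representation (ZMod 2) S E) :
    Representation F S (F ⊗[ZMod 2] E) where
  toFun s := (ρ s).baseChange F
  map_one' := by
    rw [map_one]
    exact LinearMap.baseChange_one _ _
  map_mul' s t := by
    rw [map_mul]
    exact LinearMap.baseChange_mul _ _

theorem bc_apply (F : Type*) [Field F] [Algebra (ZMod 2) F] {E : Type*} [AddCommGroup E]
    [Module (ZMod 2) E] (ρ : Representation (ZMod 2) S E) (s : S) :
    bc F ρ s = (ρ s).baseChange F := rfl

theorem bc_apply_tmul (F : Type*) [Field F] [Algebra (ZMod 2) F] {E : Type*} [AddCommGroup E]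
    [Module (ZMod 2) E] (ρ : Representation (ZMod 2) S E) (s : S) (a : F) (e : E) :
    bc F ρ s (a ⊗ₜ[ZMod 2] e) = a ⊗ₜ[ZMod 2] (ρ s e) := rfl

end Cfsg.Agent.Helper17.TQ
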