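import Mathlib
import Cfsg.Agent.Lib.TQ.TQDefs

/-! S4414 piece TQ-BCCOORD (helper17 design; see plans/S4414_plan.md). -/

set_option autoImplicit false

namespace Cfsg.Agent.Helper17.TQ

open scoped TensorProduct Pointwise

variable {S : Type*} [Group S] {F : Type*} [Field F] {M : Type*} [AddCommGroup M] [Module F M]

variable {K : Type*} [Field K] [Algebra (ZMod 2) K] {E : Type*} [AddCommGroup E]
  [Module (ZMod 2) E]

theorem bc_coord {ι : Type*} [DecidableEq ι] (ℬ : Module.Basis ι (ZMod 2) K)
    (f : E →ₗ[ZMod 2] E) (x : K ⊗[ZMod 2] E) (i : ι) :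
    TensorProduct.equivFinsuppOfBasisLeft ℬ (f.baseChange K x) i
      = f (TensorProduct.equivFinsuppOfBasisLeft ℬ x i) := by
  induction x with
  | zero => simp
  | tmul k e =>
    rw [LinearMap.baseChange_tmul, TensorProduct.equivFinsuppOfBasisLeft_apply_tmul_apply,
      TensorProduct.equivFinsuppOfBasisLeft_apply_tmul_apply, map_smul]
  | add x y hx hy =>
    rw [map_add, map_add, Finsupp.add_apply, hx, hy, map_add, Finsupp.add_apply, map_add]

end Cfsg.Agent.Helper17.TQ
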