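import Mathlib
import Cfsg.Agent.Lib.TQ.TQDefs
import Cfsg.Agent.Lib.TQ.TQBCCOORD

/-! S4414 piece TQ-BCFIX (helper17 design; see plans/S4414_plan.md).  Proved by helper8:
a vector of the base change is fixed by `T` iff all its coordinates are. -/

set_option autoImplicit false

namespace Cfsg.Agent.Helper17.TQ

open scoped TensorProduct Pointwise

variable {S : Type*} [Group S] {F : Type*} [Field F] {M : Type*} [AddCommGroup M] [Module F M]

variable {K : Type*} [Field K] [Algebra (ZMod 2) K] {E : Type*} [AddCommGroup E]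
  [Module (ZMod 2) E]

theorem mem_fixT_bc_iff {ι : Type*} [DecidableEq ι] (ℬ : Module.Basis ι (ZMod 2) K)
    (ρ : Representation (ZMod 2) S E) (T : Subgroup S) (x : K ⊗[ZMod 2] E) :
    x ∈ fixT (bc K ρ) T ↔ ∀ i, TensorProduct.equivFinsuppOfBasisLeft ℬ x i ∈ fixT ρ T := by
  simp only [mem_fixT]
  constructor
  · intro h i t ht
    have h1 := h t ht
    rw [bc_apply] at h1
    have h2 := bc_coord ℬ (ρ t) x i
    rw [h1] at h2
    exact h2.symm
  · intro h t ht
    apply (TensorProduct.equivFinsuppOfBasisLeft ℬ).injective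
    apply Finsupp.ext
    intro i
    rw [bc_apply, bc_coord]
    exact h i t ht

end Cfsg.Agent.Helper17.TQ
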