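import Mathlib
import Cfsg.Agent.Lib.TQ.TQDefs
import Cfsg.Agent.Lib.TQ.TQBCFIX

/-! S4414 piece TQ-BCCARD (helper17 design; see plans/S4414_plan.md). -/

set_option autoImplicit false

namespace Cfsg.Agent.Helper17.TQ

open scoped TensorProduct Pointwise

variable {S : Type*} [Group S] {F : Type*} [Field F] {M : Type*} [AddCommGroup M] [Module F M]

variable {K : Type*} [Field K] [Algebra (ZMod 2) K] {E : Type*} [AddCommGroup E]
  [Module (ZMod 2) E]

/-- the coordinate bijection between the fixed space of the base change and tuples of fixed vectors -/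
noncomputable def tq_bccard_equiv {ι : Type*} [DecidableEq ι] [Finite ι]
    (ℬ : Module.Basis ι (ZMod 2) K)
    (ρ : Representation (ZMod 2) S E) (T : Subgroup S) :
    ↥(fixT (bc K ρ) T) ≃ (ι → ↥(fixT ρ T)) where
  toFun x := fun i => ⟨TensorProduct.equivFinsuppOfBasisLeft ℬ (x : K ⊗[ZMod 2] E) i,
    (mem_fixT_bc_iff ℬ ρ T x).1 x.2 i⟩
  invFun g := ⟨(TensorProduct.equivFinsuppOfBasisLeft ℬ).symm
      (Finsupp.equivFunOnFinite.symm (fun i => ((g i : ↥(fixT ρ T)) : E))), by
    rw [mem_fixT_bc_iff ℬ]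
    intro i
    rw [LinearEquiv.apply_symm_apply]
    exact (g i).2⟩
  left_inv x := by
    apply Subtype.ext
    apply (TensorProduct.equivFinsuppOfBasisLeft ℬ).injective
    rw [LinearEquiv.apply_symm_apply]
    ext i
    rfl
  right_inv g := by
    funext i
    apply Subtype.ext
    show TensorProduct.equivFinsuppOfBasisLeft ℬ ((TensorProduct.equivFinsuppOfBasisLeft ℬ).symm
      (Finsupp.equivFunOnFinite.symm (fun i => ((g i : ↥(fixT ρ T)) : E)))) i = _
    rw [LinearEquiv.apply_symm_apply]
    rfl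

theorem card_fixT_bc [Finite K] [Finite E] (ρ : Representation (ZMod 2) S E) (T : Subgroup S) :
    Nat.card (fixT (bc K ρ) T) = Nat.card (fixT ρ T) ^ Module.finrank (ZMod 2) K := by
  classical
  have : Module.Finite (ZMod 2) K := Module.Finite.of_finite
  rw [Nat.card_congr (tq_bccard_equiv (Module.finBasis (ZMod 2) K) ρ T), Nat.card_fun,
    Nat.card_fin]

end Cfsg.Agent.Helper17.TQ
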