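import Mathlib
import Cfsg.Agent.Lib.TQ.TQDefs

/-! S4414 piece TQ-BCFIN (helper17 design; see plans/S4414_plan.md). -/

set_option autoImplicit false

namespace Cfsg.Agent.Helper17.TQ

open scoped TensorProduct Pointwise

variable {S : Type*} [Group S] {F : Type*} [Field F] {M : Type*} [AddCommGroup M] [Module F M]

variable {K : Type*} [Field K] [Algebra (ZMod 2) K] {E : Type*} [AddCommGroup E]
  [Module (ZMod 2) E]

theorem finite_bc [Finite K] [Finite E] : Finite (K ⊗[ZMod 2] E) := by
  haveI : Module.Finite (ZMod 2) K := Module.Finite.of_finite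
  haveI : Module.Finite (ZMod 2) E := Module.Finite.of_finite
  exact Module.finite_of_finite (ZMod 2)

theorem nontrivial_bc [Nontrivial E] : Nontrivial (K ⊗[ZMod 2] E) := by
  classical
  have ℬ := Module.Basis.ofVectorSpace (ZMod 2) K
  haveI : Nonempty (Module.Basis.ofVectorSpaceIndex (ZMod 2) K) := ℬ.index_nonempty
  exact (TensorProduct.equivFinsuppOfBasisLeft (N := E) ℬ).toEquiv.nontrivial

end Cfsg.Agent.Helper17.TQ
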