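import Mathlib
import Cfsg.Agent.Lib.TQ.TQDefs
import Cfsg.Agent.Lib.TQ.TQBCFIX
import Cfsg.Agent.Lib.TQ.TQBCCOORD

/-! S4414 piece TQ-BCINV (helper17 design; see plans/S4414_plan.md).  Proved by helper7:
if `g` preserves the fixed space of `T` on `E`, then `bc g` preserves the fixed space of `T` on
`K ⊗ E` (coordinates with respect to a basis of `K` over `𝔽₂`). -/

set_option autoImplicit false

namespace Cfsg.Agent.Helper17.TQ

open scoped TensorProduct Pointwise

variable {S : Type*} [Group S] {F : Type*} [Field F] {M : Type*} [AddCommGroup M] [Module F M]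

variable {K : Type*} [Field K] [Algebra (ZMod 2) K] {E : Type*} [AddCommGroup E]
  [Module (ZMod 2) E]

theorem bc_invariant (ρ : Representation (ZMod 2) S E) (T : Subgroup S) (g : S)
    (h : ∀ v ∈ fixT ρ T, ρ g v ∈ fixT ρ T) :
    ∀ x ∈ fixT (bc K ρ) T, bc K ρ g x ∈ fixT (bc K ρ) T := by
  classical
  intro x hx
  have ℬ : Module.Basis (Module.Basis.ofVectorSpaceIndex (ZMod 2) K) (ZMod 2) K :=
    Module.Basis.ofVectorSpace (ZMod 2) K
  rw [mem_fixT_bc_iff ℬ] at hx ⊢
  intro i
  rw [bc_apply, bc_coord]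
  exact h _ (hx i)

end Cfsg.Agent.Helper17.TQ
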