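import Mathlib
import Cfsg.Agent.Lib.TQ.TQDefs

/-! S4414 piece TQ-BCSUM (helper17 design; see plans/S4414_plan.md): base change is additive,
so a vanishing sum of operators stays vanishing after base change.  (helper22) -/

set_option autoImplicit false

namespace Cfsg.Agent.Helper17.TQ

open scoped TensorProduct Pointwise

variable {S : Type*} [Group S] {F : Type*} [Field F] {M : Type*} [AddCommGroup M] [Module F M]

variable {K : Type*} [Field K] [Algebra (ZMod 2) K] {E : Type*} [AddCommGroup E]
  [Module (ZMod 2) E]

theorem bc_sum_eq_zero (ρ : Representation (ZMod 2) S E) (V : Subgroup S) [Fintype V]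
    (h : ∑ v : V, ρ (v : S) = 0) : ∑ v : V, bc K ρ (v : S) = 0 := by
  have h1 : ∑ v : V, bc K ρ (v : S) = (∑ v : V, ρ (v : S)).baseChange K := by
    simp only [bc_apply]
    exact (map_sum (LinearMap.baseChangeHom (ZMod 2) K E E) (fun v : V => ρ (v : S))
      Finset.univ).symm
  rw [h1, h]
  exact LinearMap.baseChange_zero

end Cfsg.Agent.Helper17.TQ
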