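import Mathlib
import Cfsg.Agent.Lib.TQ.TQDefs

/-! S4414 piece TQ-CARDLI (helper17 design; see plans/S4414_plan.md). Proof by helper19. -/

set_option autoImplicit false

namespace Cfsg.Agent.Helper17.TQ

open scoped TensorProduct Pointwise

variable {S : Type*} [Group S] {F : Type*} [Field F] {M : Type*} [AddCommGroup M] [Module F M]

theorem card_pow_le_of_linearIndependent [Finite F] [Finite M] (W : Submodule F M) {m : ℕ}
    (x : Fin m → M) (hx : ∀ i, x i ∈ W) (hli : LinearIndependent F x) :
    Nat.card F ^ m ≤ Nat.card W := by
  have hinj := hli.fintypeLinearCombination_injective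
  have hmem : ∀ c : Fin m → F, Fintype.linearCombination F x c ∈ W := by
    intro c
    rw [Fintype.linearCombination_apply]
    exact W.sum_mem (fun i _ => W.smul_mem _ (hx i))
  let f : (Fin m → F) → W := fun c => ⟨Fintype.linearCombination F x c, hmem c⟩
  have hf : Function.Injective f := by
    intro c d hcd
    apply hinj
    exact congrArg Subtype.val hcd
  have h1 : Nat.card (Fin m → F) ≤ Nat.card W := Nat.card_le_card_of_injective f hf
  have h2 : Nat.card (Fin m → F) = Nat.card F ^ m := by
    rw [Nat.card_fun, Nat.card_fin]
  rw [← h2]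
  exact h1

end Cfsg.Agent.Helper17.TQ
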