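import Mathlib
import Cfsg.Agent.Lib.TQ.TQDefs

/-! S4414 piece TQ-CHARSEP (helper17 design; see plans/S4414_plan.md). Proof by helper19. -/

set_option autoImplicit false

namespace Cfsg.Agent.Helper17.TQ

open scoped TensorProduct Pointwise

variable {S : Type*} [Group S] {F : Type*} [Field F] {M : Type*} [AddCommGroup M] [Module F M]

theorem char_sep (V : Subgroup S) [Finite V] (hVc : ∀ a b : V, a * b = b * a)
    [HasEnoughRootsOfUnity F (Nat.card V)] :
    (∀ v : V, v ≠ 1 → ∃ χ : ↥V →* Fˣ, χ v ≠ 1) ∧ Nat.card (↥V →* Fˣ) = Nat.card V := by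
  let instC : CommGroup ↥V := { (inferInstance : Group ↥V) with mul_comm := hVc }
  have hne : NeZero (Nat.card ↥V) := ⟨Nat.card_pos.ne'⟩
  have hdvd : Monoid.exponent ↥V ∣ Nat.card ↥V := Group.exponent_dvd_nat_card
  have hroots : HasEnoughRootsOfUnity F (Monoid.exponent ↥V) :=
    HasEnoughRootsOfUnity.of_dvd F hdvd
  refine ⟨?_, ?_⟩
  · intro v hv
    exact CommGroup.exists_apply_ne_one_of_hasEnoughRootsOfUnity ↥V F hv
  · exact CommGroup.card_monoidHom_of_hasEnoughRootsOfUnity ↥V F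

end Cfsg.Agent.Helper17.TQ
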