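import Mathlib
import Cfsg.Agent.Lib.TQ.TQDefs

/-! S4414 piece TQ-CONJ (helper17 design; see plans/S4414_plan.md); proved by helper27. -/

set_option autoImplicit false

namespace Cfsg.Agent.Helper17.TQ

open scoped TensorProduct Pointwise

variable {S : Type*} [Group S] {F : Type*} [Field F] {M : Type*} [AddCommGroup M] [Module F M]

theorem idem_conj (r : Representation F S M) (V : Subgroup S) [V.Normal] [Fintype V] (s : S)
    (χ : ↥V →* Fˣ) : r s * idem r V χ = idem r V (s • χ) * r s := by
  unfold idem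
  rw [Finset.mul_sum, Finset.sum_mul]
  refine Fintype.sum_equiv (MulAut.conjNormal (H := V) s).toEquiv _ _ ?_
  intro v
  rw [mul_smul_comm, smul_mul_assoc, ← map_mul, ← map_mul]
  have h1 : ((MulAut.conjNormal (H := V) s).toEquiv v : S) * s = s * (v : S) := by
    show ((MulAut.conjNormal (H := V) s v : ↥V) : S) * s = s * (v : S)
    rw [MulAut.conjNormal_apply]
    group
  have h2 : (s • χ) ((MulAut.conjNormal (H := V) s).toEquiv v)⁻¹ = χ v⁻¹ := by
    rw [smul_char_apply]
    congr 1
    show (MulAut.conjNormal (H := V) s⁻¹) ((MulAut.conjNormal (H := V) s v)⁻¹) = v⁻¹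
    rw [map_inv, map_inv, ← MulAut.mul_apply, inv_mul_cancel, MulAut.one_apply]
  rw [h1, h2]

end Cfsg.Agent.Helper17.TQ
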