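import Mathlib
import Cfsg.Agent.Lib.TQ.TQDefs

/-! S4414 piece TQ-FIELD (helper17 design; see plans/S4414_plan.md). -/

set_option autoImplicit false

namespace Cfsg.Agent.Helper17.TQ

open scoped TensorProduct Pointwise

variable {S : Type*} [Group S] {F : Type*} [Field F] {M : Type*} [AddCommGroup M] [Module F M]

/-- in a finite cyclic group there is an element of every order dividing the order of the group -/
theorem tq_field_exists_orderOf {G : Type*} [Group G] [Finite G] [IsCyclic G] (n : ℕ)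
    (hn : n ∣ Nat.card G) : ∃ x : G, orderOf x = n := by
  obtain ⟨g, hg⟩ := IsCyclic.exists_ofOrder_eq_natCard (α := G)
  have hN : Nat.card G ≠ 0 := Nat.card_pos.ne'
  have hn0 : n ≠ 0 := by
    rintro rfl
    exact hN (Nat.eq_zero_of_zero_dvd hn)
  have hm : Nat.card G / n ∣ orderOf g := by
    rw [hg]
    exact Nat.div_dvd_of_dvd hn
  have hm0 : Nat.card G / n ≠ 0 := by
    have := Nat.div_pos (Nat.le_of_dvd (Nat.pos_of_ne_zero hN) hn) (Nat.pos_of_ne_zero hn0)
    omega
  refine ⟨g ^ (Nat.card G / n), ?_⟩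
  rw [orderOf_pow_of_dvd hm0 hm, hg, Nat.div_div_self hn hN]

theorem exists_galois_roots (n : ℕ) (hn : Odd n) :
    ∃ k : ℕ, k ≠ 0 ∧ HasEnoughRootsOfUnity (GaloisField 2 k) n := by
  have hn0 : n ≠ 0 := by
    rintro rfl
    exact (by decide : ¬ Odd 0) hn
  haveI : NeZero n := ⟨hn0⟩
  have hcop : Nat.Coprime 2 n := (Nat.coprime_two_left).2 hn
  have hk0 : Nat.totient n ≠ 0 := (Nat.totient_pos.2 (Nat.pos_of_ne_zero hn0)).ne'
  refine ⟨Nat.totient n, hk0, ?_⟩
  have hmod : 2 ^ Nat.totient n ≡ 1 [MOD n] := Nat.ModEq.pow_totient hcop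
  have hdvd : n ∣ 2 ^ Nat.totient n - 1 :=
    (Nat.modEq_iff_dvd' Nat.one_le_two_pow).1 hmod.symm
  have hcardK : Nat.card (GaloisField 2 (Nat.totient n)) = 2 ^ Nat.totient n :=
    GaloisField.card 2 (Nat.totient n) hk0
  haveI : Finite (GaloisField 2 (Nat.totient n)) := by
    apply Nat.finite_of_card_ne_zero
    rw [hcardK]
    positivity
  have hcardU : Nat.card (GaloisField 2 (Nat.totient n))ˣ = 2 ^ Nat.totient n - 1 := by
    rw [Nat.card_units, hcardK]
  obtain ⟨u, hu⟩ := tq_field_exists_orderOf (G := (GaloisField 2 (Nat.totient n))ˣ) n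
    (by rw [hcardU]; exact hdvd)
  refine ⟨⟨(u : GaloisField 2 (Nat.totient n)), ?_⟩, rootsOfUnity.isCyclic _ n⟩
  rw [IsPrimitiveRoot.coe_units_iff]
  have h := IsPrimitiveRoot.orderOf u
  rw [hu] at h
  exact h

end Cfsg.Agent.Helper17.TQ
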