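import Mathlib
import Cfsg.Agent.Lib.TQ.TQDefs

/-! S4414 piece TQ-NORMABS (helper17 design; see plans/S4414_plan.md): the norm element of `V`
absorbs the elements of `V`. -/

set_option autoImplicit false

namespace Cfsg.Agent.Helper17.TQ

open scoped TensorProduct Pointwise

variable {S : Type*} [Group S] {F : Type*} [Field F] {M : Type*} [AddCommGroup M] [Module F M]

variable {k : Type*} [Field k] {E : Type*} [AddCommGroup E] [Module k E]

theorem norm_absorb (ρ : Representation k S E) (V : Subgroup S) [Fintype V] (w : S)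
    (hw : w ∈ V) : ρ w * (∑ v : V, ρ (v : S)) = ∑ v : V, ρ (v : S) := by
  rw [Finset.mul_sum]
  refine Fintype.sum_equiv (Equiv.mulLeft (⟨w, hw⟩ : V)) _ _ ?_
  intro v
  rw [← map_mul]
  rfl

end Cfsg.Agent.Helper17.TQ
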