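import Mathlib
import Cfsg.Agent.Lib.TQ.TQDefs

/-! S4414 piece TQ-NORMCOMM (helper17 design; see plans/S4414_plan.md).  Proved by helper28. -/

set_option autoImplicit false

namespace Cfsg.Agent.Helper17.TQ

open scoped TensorProduct Pointwise

variable {S : Type*} [Group S] {F : Type*} [Field F] {M : Type*} [AddCommGroup M] [Module F M]

variable {k : Type*} [Field k] {E : Type*} [AddCommGroup E] [Module k E]

theorem norm_comm (ρ : Representation k S E) (V : Subgroup S) [V.Normal] [Fintype V] (s : S) :
    ρ s * (∑ v : V, ρ (v : S)) = (∑ v : V, ρ (v : S)) * ρ s := by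
  rw [Finset.mul_sum, Finset.sum_mul]
  refine Fintype.sum_equiv (MulAut.conjNormal (H := V) s).toEquiv (fun v => ρ s * ρ (v : S))
    (fun w => ρ (w : S) * ρ s) ?_
  intro v
  show ρ s * ρ (v : S) = ρ ((MulAut.conjNormal s v : V) : S) * ρ s
  rw [MulAut.conjNormal_apply, ← map_mul, ← map_mul]
  congr 1
  group

end Cfsg.Agent.Helper17.TQ
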