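import Mathlib
import Cfsg.Agent.Lib.TQ.TQDefs
import Cfsg.Agent.Lib.TQ.TQNORMCOMM
import Cfsg.Agent.Lib.TQ.TQNORMABS

/-! S4414 piece TQ-NORMZERO (helper17 design; see plans/S4414_plan.md).  Proved by helper28
(uses the statements of TQ-NORMCOMM and TQ-NORMABS). -/

set_option autoImplicit false

namespace Cfsg.Agent.Helper17.TQ

open scoped TensorProduct Pointwise

variable {S : Type*} [Group S] {F : Type*} [Field F] {M : Type*} [AddCommGroup M] [Module F M]

variable {k : Type*} [Field k] {E : Type*} [AddCommGroup E] [Module k E]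

theorem norm_eq_zero (ρ : Representation k S E) (V : Subgroup S) [V.Normal] [Fintype V]
    (hVne : V ≠ ⊥)
    (hirr : ∀ N : Submodule k E, (∀ s : S, ∀ m ∈ N, ρ s m ∈ N) → N = ⊥ ∨ N = ⊤)
    (hfaith : ∀ x ∈ V, ρ x = 1 → x = 1) : ∑ v : V, ρ (v : S) = 0 := by
  have hinv : ∀ s : S, ∀ m ∈ LinearMap.range (∑ v : V, ρ (v : S)),
      ρ s m ∈ LinearMap.range (∑ v : V, ρ (v : S)) := by
    rintro s m ⟨x, rfl⟩
    refine ⟨ρ s x, ?_⟩
    have h1 := congrArg (fun f : Module.End k E => f x) (norm_comm ρ V s)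
    simp only [Module.End.mul_apply] at h1
    exact h1.symm
  rcases hirr _ hinv with h | h
  · exact LinearMap.range_eq_bot.1 h
  · exfalso
    apply hVne
    rw [Subgroup.eq_bot_iff_forall]
    intro w hw
    apply hfaith w hw
    apply LinearMap.ext
    intro y
    have hy : y ∈ LinearMap.range (∑ v : V, ρ (v : S)) := by rw [h]; trivial
    obtain ⟨x, rfl⟩ := hy
    have h2 := congrArg (fun f : Module.End k E => f x) (norm_absorb ρ V w hw)
    simp only [Module.End.mul_apply] at h2
    rw [Module.End.one_apply]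
    exact h2

end Cfsg.Agent.Helper17.TQ
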