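import Mathlib
import Cfsg.Agent.Lib.TQ.TQDefs

/-! S4414 piece TQ-FREE (helper17 design; see plans/S4414_plan.md): a character of `V = [V, Q]`
fixed by all of `Q` is trivial. -/

set_option autoImplicit false

namespace Cfsg.Agent.Helper17.TQ

open scoped TensorProduct Pointwise

variable {S : Type*} [Group S] {F : Type*} [Field F] {M : Type*} [AddCommGroup M] [Module F M]

theorem char_eq_one_of_fixed (V Q : Subgroup S) [V.Normal] (hcomm : ⁅V, Q⁆ = V)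
    (χ : ↥V →* Fˣ) (hfix : ∀ g ∈ Q, g • χ = χ) : χ = 1 := by
  have hVn : V.Normal := inferInstance
  have hle : ⁅V, Q⁆ ≤ (χ.ker).map V.subtype := by
    rw [Subgroup.commutator_le]
    intro v hv h hh
    rw [commutatorElement_def]
    have hconj : h * v⁻¹ * h⁻¹ ∈ V := hVn.conj_mem v⁻¹ (V.inv_mem hv) h
    have hfixh : h⁻¹ • χ = χ := hfix h⁻¹ (Q.inv_mem hh)
    have h1 : χ ⟨h * v⁻¹ * h⁻¹, hconj⟩ = χ ⟨v⁻¹, V.inv_mem hv⟩ := by
      have h2 := smul_char_apply' V h⁻¹ χ ⟨v⁻¹, V.inv_mem hv⟩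
      rw [hfixh] at h2
      rw [h2]
      congr 1
      apply Subtype.ext
      simp
    refine Subgroup.mem_map.2 ⟨⟨v, hv⟩ * ⟨h * v⁻¹ * h⁻¹, hconj⟩, ?_, ?_⟩
    · rw [MonoidHom.mem_ker, map_mul, h1, ← map_mul]
      have : (⟨v, hv⟩ : ↥V) * ⟨v⁻¹, V.inv_mem hv⟩ = 1 := by
        apply Subtype.ext
        simp
      rw [this, map_one]
    · show v * (h * v⁻¹ * h⁻¹) = v * h * v⁻¹ * h⁻¹
      simp only [mul_assoc]
  rw [hcomm] at hle
  apply MonoidHom.ext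
  intro v
  obtain ⟨k, hk, hkv⟩ := Subgroup.mem_map.1 (hle v.2)
  have : k = v := Subtype.ext hkv
  rw [← this, MonoidHom.one_apply]
  exact MonoidHom.mem_ker.1 hk

end Cfsg.Agent.Helper17.TQ
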