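import Mathlib
import Cfsg.Agent.Lib.TQ.TQDefs

/-! S4414 piece TQ-PRIMEGEN (helper17 design; see plans/S4414_plan.md); proved by helper27. -/

set_option autoImplicit false

namespace Cfsg.Agent.Helper17.TQ

open scoped TensorProduct Pointwise

variable {S : Type*} [Group S] {F : Type*} [Field F] {M : Type*} [AddCommGroup M] [Module F M]

theorem le_of_prime_card_of_mem (Q H : Subgroup S) (q : ℕ) (hq : q.Prime)
    (hQ : Nat.card Q = q) (g : S) (hgQ : g ∈ Q) (hg1 : g ≠ 1) (hgH : g ∈ H) : Q ≤ H := by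
  have hfin : Finite ↥Q := Nat.finite_of_card_ne_zero (by rw [hQ]; exact hq.ne_zero)
  have hle : Subgroup.zpowers g ≤ Q := (Subgroup.zpowers_le).2 hgQ
  have hdvd : Nat.card ↥(Subgroup.zpowers g) ∣ q := by
    rw [← hQ]
    exact Subgroup.card_dvd_of_le hle
  have hzH : Subgroup.zpowers g ≤ H := (Subgroup.zpowers_le).2 hgH
  rcases (Nat.dvd_prime hq).1 hdvd with h1 | h1
  · exfalso
    apply hg1
    have hbot : Subgroup.zpowers g = ⊥ := Subgroup.card_eq_one.1 h1
    exact (Subgroup.zpowers_eq_bot).1 hbot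
  · have heq : Subgroup.zpowers g = Q := by
      apply Subgroup.eq_of_le_of_card_ge hle
      rw [h1, hQ]
    rw [← heq]
    exact hzH

end Cfsg.Agent.Helper17.TQ
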