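import Mathlib
import Cfsg.Agent.Lib.TQ.TQDefs
import Cfsg.Agent.Lib.TQ.TQPRIMEGEN
import Cfsg.Agent.Lib.TQ.TQFREE

/-! S4414 piece TQ-FREE2 (helper17 design; see plans/S4414_plan.md); proved by helper18:
a nontrivial element of `Q` (of prime order, `V = [V, Q]`) moves every nontrivial character. -/

set_option autoImplicit false

namespace Cfsg.Agent.Helper17.TQ

open scoped TensorProduct Pointwise

variable {S : Type*} [Group S] {F : Type*} [Field F] {M : Type*} [AddCommGroup M] [Module F M]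

theorem smul_char_ne (V Q : Subgroup S) [V.Normal] (q : ℕ) (hq : q.Prime)
    (hQ : Nat.card Q = q) (hcomm : ⁅V, Q⁆ = V) (χ : ↥V →* Fˣ) (hχ : χ ≠ 1) (g : S)
    (hgQ : g ∈ Q) (hg1 : g ≠ 1) : g • χ ≠ χ := by
  intro hfix
  apply hχ
  have hgH : g ∈ MulAction.stabilizer S χ := MulAction.mem_stabilizer_iff.2 hfix
  have hle : Q ≤ MulAction.stabilizer S χ :=
    le_of_prime_card_of_mem Q (MulAction.stabilizer S χ) q hq hQ g hgQ hg1 hgH
  exact char_eq_one_of_fixed V Q hcomm χ
    (fun h hh => MulAction.mem_stabilizer_iff.1 (hle hh))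

end Cfsg.Agent.Helper17.TQ
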