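import Mathlib
import Cfsg.Agent.Lib.TQ.TQDefs

/-! S4414 piece TQ-FIXPT (helper17 design; see plans/S4414_plan.md): a 2-group acting on a nonzero
invariant submodule of a finite module in characteristic 2 has a nonzero fixed vector. -/

set_option autoImplicit false

namespace Cfsg.Agent.Helper17.TQ

open scoped TensorProduct Pointwise

variable {S : Type*} [Group S] {F : Type*} [Field F] {M : Type*} [AddCommGroup M] [Module F M]

theorem exists_fixed_ne_zero [Finite S] [Finite M] [CharP F 2] (r : Representation F S M)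
    (T : Subgroup S) (hT : IsPGroup 2 T) (W : Submodule F M) (hW : W ≠ ⊥)
    (hinv : ∀ t ∈ T, ∀ x ∈ W, r t x ∈ W) : ∃ x ∈ W, x ≠ 0 ∧ ∀ t ∈ T, r t x = x := by
  have : Fact (Nat.Prime 2) := ⟨Nat.prime_two⟩
  let act : MulAction ↥T ↥W :=
    { smul := fun t x => ⟨r (t : S) (x : M), hinv t t.2 x x.2⟩
      one_smul := fun x => by
        apply Subtype.ext
        show r ((1 : ↥T) : S) (x : M) = x
        rw [Subgroup.coe_one, map_one]
        rfl
      mul_smul := fun a b x => by
        apply Subtype.ext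
        show r ((a * b : ↥T) : S) (x : M) = r (a : S) (r (b : S) (x : M))
        rw [Subgroup.coe_mul, map_mul]
        rfl }
  have hsm : ∀ (t : ↥T) (x : ↥W), ((t • x : ↥W) : M) = r (t : S) (x : M) := fun _ _ => rfl
  have hmod := hT.card_modEq_card_fixedPoints ↥W
  -- `Nat.card W` is even
  have heven : 2 ∣ Nat.card ↥W := by
    obtain ⟨y, hyW, hy0⟩ := (Submodule.ne_bot_iff W).mp hW
    have h2 : (2 : F) = 0 := by
      have := CharP.cast_eq_zero F 2
      exact_mod_cast this
    have hyy : (⟨y, hyW⟩ : ↥W) + ⟨y, hyW⟩ = 0 := by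
      apply Subtype.ext
      show y + y = 0
      rw [← two_smul F y, h2, zero_smul]
    have hord : addOrderOf (⟨y, hyW⟩ : ↥W) = 2 := by
      apply addOrderOf_eq_prime
      · rw [two_nsmul]; exact hyy
      · intro h0
        exact hy0 (congrArg Subtype.val h0)
    rw [← hord]
    exact addOrderOf_dvd_natCard _
  by_contra hcon
  push Not at hcon
  -- all fixed points are zero
  have hsub : ∀ x : ↥(MulAction.fixedPoints ↥T ↥W), x = ⟨0, fun t => by
      apply Subtype.ext
      rw [hsm]
      exact map_zero _⟩ := by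
    intro x
    apply Subtype.ext
    apply Subtype.ext
    by_contra hx0
    obtain ⟨t, ht, hne⟩ := hcon (x : ↥W) (x : ↥W).2 hx0
    apply hne
    have := x.2 ⟨t, ht⟩
    have h2 := congrArg Subtype.val this
    rw [hsm] at h2
    exact h2
  have hcard : Nat.card ↥(MulAction.fixedPoints ↥T ↥W) = 1 := by
    rw [Nat.card_eq_one_iff_unique]
    exact ⟨⟨fun a b => by rw [hsub a, hsub b]⟩, ⟨⟨0, fun t => by
      apply Subtype.ext
      rw [hsm]
      exact map_zero _⟩⟩⟩
  rw [hcard] at hmod
  have h0 : Nat.card ↥W % 2 = 0 := Nat.mod_eq_zero_of_dvd heven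
  have h1 : Nat.card ↥W % 2 = 1 % 2 := hmod
  omega

end Cfsg.Agent.Helper17.TQ
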