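import Mathlib
import Cfsg.Agent.Lib.TQ.TQDefs

/-! S4414 piece TQ-ORBFULL (helper17 design; see plans/S4414_plan.md). -/

set_option autoImplicit false

namespace Cfsg.Agent.Helper17.TQ

open scoped TensorProduct Pointwise

variable {S : Type*} [Group S] {F : Type*} [Field F] {M : Type*} [AddCommGroup M] [Module F M]

theorem eq_orbit_of_invariant {G X : Type*} [Group G] [MulAction G X] (a : X) (A : Set X)
    (hne : A.Nonempty) (hsub : A ⊆ MulAction.orbit G a) (hinv : ∀ g : G, ∀ b ∈ A, g • b ∈ A) :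
    A = MulAction.orbit G a := by
  apply Set.Subset.antisymm hsub
  intro c hc
  obtain ⟨b, hb⟩ := hne
  obtain ⟨g, hg⟩ := hsub hb
  obtain ⟨h, hh⟩ := hc
  have e : c = (h * g⁻¹) • b := by
    rw [← hh, ← hg, mul_smul, inv_smul_smul]
  rw [e]
  exact hinv _ b hb

end Cfsg.Agent.Helper17.TQ
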