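import Mathlib
import Cfsg.Agent.Lib.TQ.TQDefs

/-! S4414 piece TQ-SUPPNE (helper17 design; see plans/S4414_plan.md): a nonzero vector has nonempty
support. -/

set_option autoImplicit false

namespace Cfsg.Agent.Helper17.TQ

open scoped TensorProduct Pointwise

variable {S : Type*} [Group S] {F : Type*} [Field F] {M : Type*} [AddCommGroup M] [Module F M]

theorem supp_nonempty (r : Representation F S M) (V : Subgroup S) [Fintype V]
    [Fintype (↥V →* Fˣ)] (hsum : ∑ χ : ↥V →* Fˣ, idem r V χ = 1) (x : M) (hx : x ≠ 0) :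
    (supp r V x).Nonempty := by
  by_contra hne
  rw [Set.not_nonempty_iff_eq_empty] at hne
  apply hx
  have h1 : (∑ χ : ↥V →* Fˣ, idem r V χ) x = x := by rw [hsum]; rfl
  rw [LinearMap.sum_apply] at h1
  rw [← h1]
  apply Finset.sum_eq_zero
  intro χ _
  by_contra h0
  have : χ ∈ supp r V x := (mem_supp r V x χ).mpr h0
  rw [hne] at this
  exact this

end Cfsg.Agent.Helper17.TQ
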