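import Mathlib
import Cfsg.Agent.Lib.TQ.TQDefs
import Cfsg.Agent.Lib.TQ.TQCONJ

/-! S4414 piece TQ-SUPPSMUL (helper17 design; see plans/S4414_plan.md); proved by helper27. -/

set_option autoImplicit false

namespace Cfsg.Agent.Helper17.TQ

open scoped TensorProduct Pointwise

variable {S : Type*} [Group S] {F : Type*} [Field F] {M : Type*} [AddCommGroup M] [Module F M]

theorem tq_suppsmul_apply (r : Representation F S M) (V : Subgroup S) [V.Normal] [Fintype V]
    (s : S) (χ : ↥V →* Fˣ) (x : M) :
    idem r V χ (r s x) = r s (idem r V (s⁻¹ • χ) x) := by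
  have h := idem_conj r V s (s⁻¹ • χ)
  rw [smul_inv_smul] at h
  have h2 := LinearMap.congr_fun h x
  rw [Module.End.mul_apply, Module.End.mul_apply] at h2
  exact h2.symm

theorem tq_suppsmul_inj (r : Representation F S M) (s : S) (y : M) (h : r s y = 0) : y = 0 := by
  have h1 : r s⁻¹ (r s y) = y := by
    rw [← Module.End.mul_apply, ← map_mul, inv_mul_cancel, map_one, Module.End.one_apply]
  rw [← h1, h, map_zero]

theorem supp_smul (r : Representation F S M) (V : Subgroup S) [V.Normal] [Fintype V] (s : S)
    (x : M) : supp r V (r s x) = s • supp r V x := by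
  ext χ
  rw [Set.mem_smul_set_iff_inv_smul_mem, mem_supp, mem_supp, tq_suppsmul_apply]
  constructor
  · intro h h0
    apply h
    rw [h0, map_zero]
  · intro h h0
    exact h (tq_suppsmul_inj r s _ h0)

end Cfsg.Agent.Helper17.TQ
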