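import Mathlib
import Cfsg.Agent.Lib.TQ.TQDefs
import Cfsg.Agent.Lib.TQ.TQCONJ

/-! S4414 piece TQ-WINV (helper17 design; see plans/S4414_plan.md): `suppLE r V O` is invariant
under a subgroup `T` leaving `O` invariant.  (helper22) -/

set_option autoImplicit false

namespace Cfsg.Agent.Helper17.TQ

open scoped TensorProduct Pointwise

variable {S : Type*} [Group S] {F : Type*} [Field F] {M : Type*} [AddCommGroup M] [Module F M]

theorem suppLE_invariant (r : Representation F S M) (V : Subgroup S) [V.Normal] [Fintype V]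
    (T : Subgroup S) (O : Set (↥V →* Fˣ)) (hO : ∀ t ∈ T, ∀ χ ∈ O, t • χ ∈ O) :
    ∀ t ∈ T, ∀ x ∈ suppLE r V O, r t x ∈ suppLE r V O := by
  intro t ht x hx
  rw [mem_suppLE] at hx ⊢
  intro ψ hψ
  have h1 : t⁻¹ • ψ ∉ O := by
    intro h
    apply hψ
    have := hO t ht _ h
    rwa [smul_inv_smul] at this
  have h2 := idem_conj r V t (t⁻¹ • ψ)
  rw [smul_inv_smul] at h2
  have h3 : idem r V ψ (r t x) = (idem r V ψ * r t) x := rfl
  rw [h3, ← h2]
  change r t (idem r V (t⁻¹ • ψ) x) = 0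
  rw [hx _ h1, map_zero]

end Cfsg.Agent.Helper17.TQ
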