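import Mathlib
import Cfsg.Agent.Lib.TQ.TQDefs

/-! S4414 piece TQ-MUL0 (helper17 design; see plans/S4414_plan.md). -/

set_option autoImplicit false

namespace Cfsg.Agent.Helper17.TQ

open scoped TensorProduct Pointwise

variable {S : Type*} [Group S] {F : Type*} [Field F] {M : Type*} [AddCommGroup M] [Module F M]

theorem idem_mul_idem (r : Representation F S M) (V : Subgroup S) [Fintype V]
    (χ ψ : ↥V →* Fˣ) :
    idem r V χ * idem r V ψ = (∑ v : V, (((χ⁻¹ * ψ) v : Fˣ) : F)) • idem r V ψ := by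
  unfold idem
  rw [Finset.sum_mul, Finset.sum_smul]
  apply Finset.sum_congr rfl
  intro v _
  rw [Finset.mul_sum, Finset.smul_sum]
  apply Fintype.sum_equiv (Equiv.mulLeft v)
  intro w
  rw [Equiv.coe_mulLeft, smul_mul_smul_comm, smul_smul]
  have h1 : r ((v : S)) * r ((w : S)) = r (((v * w : ↥V) : S)) := by
    rw [Subgroup.coe_mul, map_mul]
  rw [h1]
  congr 1
  have h2 : ψ (v * w)⁻¹ = ψ w⁻¹ * ψ v⁻¹ := by
    rw [mul_inv_rev, map_mul]
  rw [h2, MonoidHom.mul_apply, MonoidHom.inv_apply, map_inv, map_inv, map_inv]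
  push_cast
  have hv : ((ψ v : Fˣ) : F) ≠ 0 := Units.ne_zero _
  field_simp

end Cfsg.Agent.Helper17.TQ
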