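import Mathlib
import Cfsg.Agent.Lib.TQ.TQDefs

/-! S4414 piece TQ-ORTH1 (helper17 design; see plans/S4414_plan.md); proved by helper27. -/

set_option autoImplicit false

namespace Cfsg.Agent.Helper17.TQ

open scoped TensorProduct Pointwise

variable {S : Type*} [Group S] {F : Type*} [Field F] {M : Type*} [AddCommGroup M] [Module F M]

theorem sum_char_eq_zero {A : Type*} [Group A] [Fintype A] (φ : A →* Fˣ) (h : φ ≠ 1) :
    ∑ a : A, ((φ a : Fˣ) : F) = 0 := by
  obtain ⟨b, hb⟩ : ∃ b : A, φ b ≠ 1 := by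
    by_contra hcon
    push Not at hcon
    exact h (MonoidHom.ext fun a => by rw [hcon a, MonoidHom.one_apply])
  have h1 : ((φ b : Fˣ) : F) * ∑ a : A, ((φ a : Fˣ) : F) = ∑ a : A, ((φ a : Fˣ) : F) := by
    rw [Finset.mul_sum]
    refine Fintype.sum_equiv (Equiv.mulLeft b) _ _ ?_
    intro a
    rw [Equiv.coe_mulLeft, map_mul, Units.val_mul]
  have h2 : (((φ b : Fˣ) : F) - 1) * ∑ a : A, ((φ a : Fˣ) : F) = 0 := by
    rw [sub_mul, one_mul, h1, sub_self]
  rcases mul_eq_zero.1 h2 with h3 | h3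
  · exfalso
    apply hb
    apply Units.ext
    rw [Units.val_one]
    exact sub_eq_zero.1 h3
  · exact h3

end Cfsg.Agent.Helper17.TQ
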