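import Mathlib
import Cfsg.Agent.Lib.TQ.TQDefs
import Cfsg.Agent.Lib.TQ.TQMUL0
import Cfsg.Agent.Lib.TQ.TQORTH1

/-! S4414 piece TQ-MUL (helper17 design; see plans/S4414_plan.md); proved by helper20. -/

set_option autoImplicit false

namespace Cfsg.Agent.Helper17.TQ

open scoped TensorProduct Pointwise

variable {S : Type*} [Group S] {F : Type*} [Field F] {M : Type*} [AddCommGroup M] [Module F M]

theorem idem_mul_self [CharP F 2] (r : Representation F S M) (V : Subgroup S) [Fintype V]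
    (hodd : Odd (Fintype.card V)) (χ : ↥V →* Fˣ) :
    idem r V χ * idem r V χ = idem r V χ := by
  rw [idem_mul_idem]
  have h1 : ∑ v : V, (((χ⁻¹ * χ) v : Fˣ) : F) = (Fintype.card V : F) := by
    have h0 : ∀ v : V, (((χ⁻¹ * χ) v : Fˣ) : F) = 1 := by
      intro v
      rw [MonoidHom.mul_apply, MonoidHom.inv_apply, inv_mul_cancel, Units.val_one]
    simp only [h0]
    simp
  rw [h1]
  obtain ⟨k, hk⟩ := hodd
  have h2 : ((2 : ℕ) : F) = 0 := CharP.cast_eq_zero F 2
  have h3 : (Fintype.card V : F) = 1 := by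
    rw [hk]
    push_cast
    push_cast at h2
    rw [h2, zero_mul, zero_add]
  rw [h3, one_smul]

theorem idem_mul_of_ne (r : Representation F S M) (V : Subgroup S) [Fintype V]
    (χ ψ : ↥V →* Fˣ) (h : χ ≠ ψ) : idem r V χ * idem r V ψ = 0 := by
  rw [idem_mul_idem]
  have hne : χ⁻¹ * ψ ≠ 1 := by
    intro h1
    exact h (inv_mul_eq_one.1 h1)
  rw [sum_char_eq_zero (χ⁻¹ * ψ) hne, zero_smul]

end Cfsg.Agent.Helper17.TQ
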