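import Mathlib
import Cfsg.Agent.Lib.TQ.TQDefs
import Cfsg.Agent.Lib.TQ.TQMUL

/-! S4414 piece TQ-WNE (helper17 design; see plans/S4414_plan.md).  Done by helper4. -/

set_option autoImplicit false

namespace Cfsg.Agent.Helper17.TQ

open scoped TensorProduct Pointwise

variable {S : Type*} [Group S] {F : Type*} [Field F] {M : Type*} [AddCommGroup M] [Module F M]

theorem suppLE_ne_bot (r : Representation F S M) (V : Subgroup S) [Fintype V]
    (O : Set (↥V →* Fˣ)) (χ : ↥V →* Fˣ) (hχO : χ ∈ O) (hχ : idem r V χ ≠ 0) :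
    suppLE r V O ≠ ⊥ := by
  have hex : ∃ y : M, idem r V χ y ≠ 0 := by
    by_contra hno
    apply hχ
    apply LinearMap.ext
    intro y
    by_contra hy
    exact hno ⟨y, hy⟩
  obtain ⟨y, hy⟩ := hex
  intro hbot
  have hx : idem r V χ y ∈ suppLE r V O := by
    rw [mem_suppLE]
    intro ψ hψ
    have hne : ψ ≠ χ := by
      intro h
      exact hψ (h ▸ hχO)
    have h0 := idem_mul_of_ne r V ψ χ hne
    have h1 : (idem r V ψ * idem r V χ) y = 0 := by
      rw [h0]
      rfl
    exact h1
  rw [hbot] at hx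
  exact hy ((Submodule.mem_bot F).1 hx)

end Cfsg.Agent.Helper17.TQ
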