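import Mathlib
import Cfsg.Agent.Lib.TQ.TQDefs
import Cfsg.Agent.Lib.TQ.TQWNE
import Cfsg.Agent.Lib.TQ.TQWINV
import Cfsg.Agent.Lib.TQ.TQFIXPT
import Cfsg.Agent.Lib.TQ.TQSUPPNE
import Cfsg.Agent.Lib.TQ.TQORBFULL
import Cfsg.Agent.Lib.TQ.TQSUPPSMUL

/-! S4414 piece TQ-LEMA (helper17 design; see plans/S4414_plan.md). -/

set_option autoImplicit false

namespace Cfsg.Agent.Helper17.TQ

open scoped TensorProduct Pointwise

variable {S : Type*} [Group S] {F : Type*} [Field F] {M : Type*} [AddCommGroup M] [Module F M]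

theorem exists_fixed_with_supp [Finite S] [Finite M] [CharP F 2] (r : Representation F S M)
    (V : Subgroup S) [V.Normal] [Fintype V] [Fintype (↥V →* Fˣ)]
    (hsum : ∑ χ : ↥V →* Fˣ, idem r V χ = 1) (T : Subgroup S) (hT : IsPGroup 2 T)
    (χ : ↥V →* Fˣ) (hχ : idem r V χ ≠ 0) :
    ∃ x ∈ fixT r T, supp r V x = MulAction.orbit (↥T) χ := by
  have hO : ∀ t ∈ T, ∀ ψ ∈ MulAction.orbit (↥T) χ, t • ψ ∈ MulAction.orbit (↥T) χ := by
    intro t ht ψ hψ
    exact MulAction.mem_orbit_of_mem_orbit (⟨t, ht⟩ : ↥T) hψ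
  have hW : suppLE r V (MulAction.orbit (↥T) χ) ≠ ⊥ :=
    suppLE_ne_bot r V _ χ (MulAction.mem_orbit_self χ) hχ
  have hinv := suppLE_invariant r V T (MulAction.orbit (↥T) χ) hO
  obtain ⟨x, hxW, hx0, hfix⟩ := exists_fixed_ne_zero r T hT _ hW hinv
  refine ⟨x, (mem_fixT r T x).2 hfix, ?_⟩
  have hsub : supp r V x ⊆ MulAction.orbit (↥T) χ := (mem_suppLE_iff r V _ x).1 hxW
  have hne : (supp r V x).Nonempty := supp_nonempty r V hsum x hx0
  have hinv' : ∀ g : ↥T, ∀ b ∈ supp r V x, g • b ∈ supp r V x := by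
    intro g b hb
    have h1 := supp_smul r V (g : S) x
    rw [hfix (g : S) g.2] at h1
    have h2 : (g : S) • b ∈ (g : S) • supp r V x := Set.smul_mem_smul_set hb
    rw [← h1] at h2
    exact h2
  exact eq_orbit_of_invariant (G := ↥T) χ (supp r V x) hne hsub hinv'

end Cfsg.Agent.Helper17.TQ
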