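import Mathlib
import Cfsg.Agent.Lib.TQ.TQDefs

/-! S4414 piece TQ-LEMD (helper17 design; see plans/S4414_plan.md). -/

set_option autoImplicit false

namespace Cfsg.Agent.Helper17.TQ

open scoped TensorProduct Pointwise

variable {S : Type*} [Group S] {F : Type*} [Field F] {M : Type*} [AddCommGroup M] [Module F M]

theorem smul_set_eq_of_comb {G X : Type*} [Group G] [MulAction G X] (g : G) (O₁ O₂ : Set X)
    (hf₁ : O₁.Finite) (hf₂ : O₂.Finite) (hdisj : Disjoint O₁ O₂)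
    (hcard : O₁.ncard ≠ O₂.ncard) (a b : Prop)
    (h : g • O₁ = {χ | (a ∧ χ ∈ O₁) ∨ (b ∧ χ ∈ O₂)}) : g • O₁ = O₁ := by
  have hn : (g • O₁).ncard = O₁.ncard := Set.ncard_smul_set g O₁
  by_cases ha : a
  · by_cases hb : b
    · have e : {χ | (a ∧ χ ∈ O₁) ∨ (b ∧ χ ∈ O₂)} = O₁ ∪ O₂ := by
        ext χ
        simp [ha, hb]
      rw [e] at h
      rw [h, Set.ncard_union_eq hdisj hf₁ hf₂] at hn
      have h0 : O₂.ncard = 0 := by omega
      have h2 : O₂ = ∅ := (Set.ncard_eq_zero hf₂).1 h0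
      rw [h, h2, Set.union_empty]
    · have e : {χ | (a ∧ χ ∈ O₁) ∨ (b ∧ χ ∈ O₂)} = O₁ := by
        ext χ
        simp [ha, hb]
      rw [h, e]
  · by_cases hb : b
    · have e : {χ | (a ∧ χ ∈ O₁) ∨ (b ∧ χ ∈ O₂)} = O₂ := by
        ext χ
        simp [ha, hb]
      rw [e] at h
      rw [h] at hn
      exact absurd hn.symm hcard
    · have e : {χ | (a ∧ χ ∈ O₁) ∨ (b ∧ χ ∈ O₂)} = (∅ : Set X) := by
        ext χ
        simp [ha, hb]
      rw [e] at h
      have h1 : O₁ = ∅ := Set.smul_set_eq_empty.1 h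
      rw [h, h1]

end Cfsg.Agent.Helper17.TQ
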