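import Mathlib
import Cfsg.Agent.Lib.TQ.TQDefs

/-! S4414 piece TQ-LI (helper17 design; see plans/S4414_plan.md): vectors with nonempty pairwise
disjoint supports are linearly independent. -/

set_option autoImplicit false

namespace Cfsg.Agent.Helper17.TQ

open scoped TensorProduct Pointwise

variable {S : Type*} [Group S] {F : Type*} [Field F] {M : Type*} [AddCommGroup M] [Module F M]

theorem linearIndependent_of_disjoint_supp (r : Representation F S M) (V : Subgroup S)
    [Fintype V] {m : ℕ} (x : Fin m → M) (hne : ∀ i, (supp r V (x i)).Nonempty)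
    (hdisj : ∀ i j, i ≠ j → Disjoint (supp r V (x i)) (supp r V (x j))) :
    LinearIndependent F x := by
  rw [Fintype.linearIndependent_iff]
  intro a ha i
  obtain ⟨χ, hχ⟩ := hne i
  have h1 : idem r V χ (∑ j, a j • x j) = 0 := by rw [ha, map_zero]
  rw [map_sum] at h1
  have h2 : ∀ j ∈ (Finset.univ : Finset (Fin m)), j ≠ i → idem r V χ (a j • x j) = 0 := by
    intro j _ hji
    have hχj : χ ∉ supp r V (x j) := by
      intro hmem
      exact (Set.disjoint_left.1 (hdisj i j (Ne.symm hji))) hχ hmem
    have : idem r V χ (x j) = 0 := by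
      by_contra h0
      exact hχj ((mem_supp r V (x j) χ).2 h0)
    rw [map_smul, this, smul_zero]
  rw [Finset.sum_eq_single_of_mem i (Finset.mem_univ i) h2, map_smul] at h1
  rcases smul_eq_zero.1 h1 with h | h
  · exact h
  · exact absurd h ((mem_supp r V (x i) χ).1 hχ)

end Cfsg.Agent.Helper17.TQ
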