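import Mathlib
import Cfsg.Agent.Lib.TQ.TQDefs

/-! S4414 piece TQ-ORBPOW (helper17 design; see plans/S4414_plan.md). -/

set_option autoImplicit false

namespace Cfsg.Agent.Helper17.TQ

open scoped TensorProduct Pointwise

variable {S : Type*} [Group S] {F : Type*} [Field F] {M : Type*} [AddCommGroup M] [Module F M]

theorem orbit_ncard_two_pow {G X : Type*} [Group G] [MulAction G X] (hG : IsPGroup 2 G)
    (a : X) (hfin : (MulAction.orbit G a).Finite) :
    ∃ n : ℕ, (MulAction.orbit G a).ncard = 2 ^ n := by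
  haveI : Fact (Nat.Prime 2) := ⟨Nat.prime_two⟩
  haveI : Finite (MulAction.orbit G a) := hfin.to_subtype
  obtain ⟨n, hn⟩ := hG.card_orbit a
  exact ⟨n, by rw [← Nat.card_coe_set_eq]; exact hn⟩

end Cfsg.Agent.Helper17.TQ
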