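import Mathlib
import Cfsg.Agent.Lib.TQ.TQDefs
import Cfsg.Agent.Lib.TQ.TQORBPOW

/-! S4414 piece TQ-ORBARITH (helper17 design; see plans/S4414_plan.md). -/

set_option autoImplicit false

namespace Cfsg.Agent.Helper17.TQ

open scoped TensorProduct Pointwise

variable {S : Type*} [Group S] {F : Type*} [Field F] {M : Type*} [AddCommGroup M] [Module F M]

theorem tq_orbarith_disjoint {G X : Type*} [Group G] [MulAction G X] (a b : X)
    (hb : b ∉ MulAction.orbit G a) : Disjoint (MulAction.orbit G a) (MulAction.orbit G b) := by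
  rw [Set.disjoint_left]
  intro x hxa hxb
  apply hb
  have h1 : MulAction.orbit G x = MulAction.orbit G a := MulAction.orbit_eq_iff.2 hxa
  have h2 : MulAction.orbit G x = MulAction.orbit G b := MulAction.orbit_eq_iff.2 hxb
  rw [← h1, h2]
  exact MulAction.mem_orbit_self b

theorem tq_orbarith_not_dvd (q : ℕ) (hq : q.Prime) (hq2 : q ≠ 2) (n : ℕ) : ¬ q ∣ 2 ^ n := by
  intro h
  have h1 := hq.dvd_of_dvd_pow h
  exact hq2 ((Nat.prime_dvd_prime_iff_eq hq Nat.prime_two).1 h1)

theorem orbit_arith {G X : Type*} [Group G] [Finite G] [MulAction G X] (hG : IsPGroup 2 G)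
    (A : Set X) (hA : A.Finite) (hne : A.Nonempty) (hinv : ∀ g : G, ∀ a ∈ A, g • a ∈ A)
    (q : ℕ) (hq : q.Prime) (hq2 : q ≠ 2) (hdvd : q ∣ A.ncard) :
    (∃ a b c, a ∈ A ∧ b ∈ A ∧ c ∈ A ∧
        Disjoint (MulAction.orbit G a) (MulAction.orbit G b) ∧
        Disjoint (MulAction.orbit G a) (MulAction.orbit G c) ∧
        Disjoint (MulAction.orbit G b) (MulAction.orbit G c)) ∨
    (∃ a b, a ∈ A ∧ b ∈ A ∧ Disjoint (MulAction.orbit G a) (MulAction.orbit G b) ∧
        (MulAction.orbit G a).ncard ≠ (MulAction.orbit G b).ncard) := by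
  classical
  have hsub : ∀ a ∈ A, MulAction.orbit G a ⊆ A := by
    rintro a ha _ ⟨g, rfl⟩
    exact hinv g a ha
  obtain ⟨a, ha⟩ := hne
  have hfa : (MulAction.orbit G a).Finite := hA.subset (hsub a ha)
  obtain ⟨n, hn⟩ := orbit_ncard_two_pow hG a hfa
  by_cases hAa : A ⊆ MulAction.orbit G a
  · exfalso
    have : A = MulAction.orbit G a := Set.Subset.antisymm hAa (hsub a ha)
    rw [this, hn] at hdvd
    exact tq_orbarith_not_dvd q hq hq2 n hdvd
  · obtain ⟨b, hb, hba⟩ := Set.not_subset.1 hAa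
    have hdab := tq_orbarith_disjoint (G := G) a b hba
    have hfb : (MulAction.orbit G b).Finite := hA.subset (hsub b hb)
    obtain ⟨m, hm⟩ := orbit_ncard_two_pow hG b hfb
    by_cases hAab : A ⊆ MulAction.orbit G a ∪ MulAction.orbit G b
    · right
      refine ⟨a, b, ha, hb, hdab, ?_⟩
      intro heq
      have hAeq : A = MulAction.orbit G a ∪ MulAction.orbit G b :=
        Set.Subset.antisymm hAab (Set.union_subset (hsub a ha) (hsub b hb))
      have hcard : A.ncard = 2 ^ (n + 1) := by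
        rw [hAeq, Set.ncard_union_eq hdab hfa hfb, ← heq, hn, pow_succ]
        ring
      rw [hcard] at hdvd
      exact tq_orbarith_not_dvd q hq hq2 _ hdvd
    · left
      obtain ⟨c, hc, hcab⟩ := Set.not_subset.1 hAab
      have hca : c ∉ MulAction.orbit G a := fun h => hcab (Or.inl h)
      have hcb : c ∉ MulAction.orbit G b := fun h => hcab (Or.inr h)
      exact ⟨a, b, c, ha, hb, hc, hdab, tq_orbarith_disjoint (G := G) a c hca,
        tq_orbarith_disjoint (G := G) b c hcb⟩

end Cfsg.Agent.Helper17.TQ
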