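import Mathlib
import Cfsg.Agent.Lib.TQ.TQDefs
import Cfsg.Agent.Lib.TQ.TQPRIMEGEN

/-! S4414 piece TQ-ORBQ (helper17 design; see plans/S4414_plan.md). -/

set_option autoImplicit false

namespace Cfsg.Agent.Helper17.TQ

open scoped TensorProduct Pointwise

variable {S : Type*} [Group S] {F : Type*} [Field F] {M : Type*} [AddCommGroup M] [Module F M]

theorem invariant_of_prime_card {X : Type*} [MulAction S X] (Q : Subgroup S) (q : ℕ)
    (hq : q.Prime) (hQ : Nat.card Q = q) (g : S) (hgQ : g ∈ Q) (hg1 : g ≠ 1) (A : Set X)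
    (hA : g • A = A) : ∀ h ∈ Q, ∀ a ∈ A, h • a ∈ A := by
  have hle : Q ≤ MulAction.stabilizer S A :=
    le_of_prime_card_of_mem Q (MulAction.stabilizer S A) q hq hQ g hgQ hg1
      (MulAction.mem_stabilizer_iff.2 hA)
  intro h hh a ha
  have h1 : h • A = A := MulAction.mem_stabilizer_iff.1 (hle hh)
  rw [← h1]
  exact Set.smul_mem_smul_set ha

end Cfsg.Agent.Helper17.TQ
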