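import Mathlib
import Cfsg.Agent.Lib.TQ.TQDefs

/-! S4414 piece TQ-QDVD (helper17 design; see plans/S4414_plan.md). -/

set_option autoImplicit false

namespace Cfsg.Agent.Helper17.TQ

open scoped TensorProduct Pointwise

variable {S : Type*} [Group S] {F : Type*} [Field F] {M : Type*} [AddCommGroup M] [Module F M]

/-- the action of a subgroup on an invariant subset -/
@[reducible] def tq_qdvd_action {G X : Type*} [Group G] [MulAction G X] (Q : Subgroup G) (A : Set X)
    (hinv : ∀ g ∈ Q, ∀ a ∈ A, g • a ∈ A) : MulAction ↥Q ↥A where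
  smul g a := ⟨(g : G) • (a : X), hinv g g.2 a a.2⟩
  one_smul a := by
    apply Subtype.ext
    show ((1 : ↥Q) : G) • (a : X) = a
    rw [Subgroup.coe_one, one_smul]
  mul_smul g h a := by
    apply Subtype.ext
    show ((g * h : ↥Q) : G) • (a : X) = (g : G) • ((h : G) • (a : X))
    rw [Subgroup.coe_mul, mul_smul]

theorem prime_dvd_ncard_of_free {G X : Type*} [Group G] [MulAction G X] (Q : Subgroup G)
    (q : ℕ) (hq : q.Prime) (hQ : Nat.card Q = q) (A : Set X) (hA : A.Finite)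
    (hinv : ∀ g ∈ Q, ∀ a ∈ A, g • a ∈ A) (hfree : ∀ g ∈ Q, g ≠ 1 → ∀ a ∈ A, g • a ≠ a) :
    q ∣ A.ncard := by
  haveI : Fact q.Prime := ⟨hq⟩
  haveI : Finite ↥A := hA.to_subtype
  letI := tq_qdvd_action Q A hinv
  have hp : IsPGroup q ↥Q := IsPGroup.of_card (n := 1) (by rw [hQ, pow_one])
  have hmod := hp.card_modEq_card_fixedPoints ↥A
  -- a nontrivial element of `Q`
  haveI : Finite ↥Q := Nat.finite_of_card_ne_zero (by rw [hQ]; exact hq.ne_zero)
  have hnt : Nontrivial ↥Q := by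
    rw [← Finite.one_lt_card_iff_nontrivial, hQ]
    exact hq.one_lt
  obtain ⟨g, hg⟩ := exists_ne (1 : ↥Q)
  have hempty : IsEmpty (MulAction.fixedPoints ↥Q ↥A) := by
    constructor
    rintro ⟨a, ha⟩
    have h1 : g • a = a := ha g
    have h2 : (g : G) • (a : X) = a := congrArg Subtype.val h1
    exact hfree g g.2 (fun h => hg (Subtype.ext h)) a a.2 h2
  have h0 : Nat.card (MulAction.fixedPoints ↥Q ↥A) = 0 := Nat.card_eq_zero.2 (Or.inl hempty)
  rw [h0, Nat.card_coe_set_eq] at hmod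
  exact (Nat.modEq_zero_iff_dvd).1 hmod

end Cfsg.Agent.Helper17.TQ
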