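import Mathlib
import Cfsg.Agent.Lib.TQ.TQDefs
import Cfsg.Agent.Lib.TQ.TQCARDLI

/-! S4414 piece TQ-SPAN2 (helper17 design; see plans/S4414_plan.md): a submodule of cardinality
`|F|^2` containing two independent vectors is spanned by them.  (helper9) -/

set_option autoImplicit false

namespace Cfsg.Agent.Helper17.TQ

open scoped TensorProduct Pointwise

variable {S : Type*} [Group S] {F : Type*} [Field F] {M : Type*} [AddCommGroup M] [Module F M]

theorem mem_span_pair_of_card [Finite F] [Finite M] (W : Submodule F M) (x₁ x₂ : M)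
    (h₁ : x₁ ∈ W) (h₂ : x₂ ∈ W) (hli : LinearIndependent F ![x₁, x₂])
    (hcard : Nat.card W = Nat.card F ^ 2) (y : M) (hy : y ∈ W) :
    ∃ a b : F, y = a • x₁ + b • x₂ := by
  classical
  have hrange : Set.range ![x₁, x₂] = {x₁, x₂} := by
    ext z
    constructor
    · rintro ⟨i, rfl⟩
      fin_cases i
      · left; rfl
      · right; rfl
    · rintro (rfl | rfl)
      · exact ⟨0, rfl⟩
      · exact ⟨1, rfl⟩
  have hPW : Submodule.span F (Set.range ![x₁, x₂]) ≤ W := by
    rw [Submodule.span_le]
    rintro _ ⟨i, rfl⟩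
    fin_cases i
    · exact h₁
    · exact h₂
  have hfrP : Module.finrank F ↥(Submodule.span F (Set.range ![x₁, x₂])) = 2 := by
    rw [finrank_span_eq_card hli]
    simp
  have hF2 : 2 ≤ Nat.card F := by
    haveI : Fintype F := Fintype.ofFinite F
    rw [← Fintype.card_eq_nat_card]
    exact Fintype.one_lt_card
  have hfrW : Module.finrank F ↥W = 2 := by
    have h := Module.natCard_eq_pow_finrank (K := F) (V := ↥W)
    rw [hcard] at h
    exact (Nat.pow_right_injective hF2 h).symm
  have heq : Submodule.span F (Set.range ![x₁, x₂]) = W :=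
    Submodule.eq_of_le_of_finrank_eq hPW (hfrP.trans hfrW.symm)
  have hy' : y ∈ Submodule.span F ({x₁, x₂} : Set M) := by
    rw [← hrange, heq]
    exact hy
  obtain ⟨a, b, hab⟩ := Submodule.mem_span_pair.1 hy'
  exact ⟨a, b, hab.symm⟩

end Cfsg.Agent.Helper17.TQ
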