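import Mathlib
import Cfsg.Agent.Lib.TQ.TQDefs
import Cfsg.Agent.Lib.TQ.TQORTH1

/-! S4414 piece TQ-SUM (helper17 design; see plans/S4414_plan.md).  Proof by helper14. -/

set_option autoImplicit false

namespace Cfsg.Agent.Helper17.TQ

open scoped TensorProduct Pointwise

variable {S : Type*} [Group S] {F : Type*} [Field F] {M : Type*} [AddCommGroup M] [Module F M]

/-- aux: the evaluation homomorphism `χ ↦ χ v` on the character group. -/
noncomputable def tq_sum_eval (V : Subgroup S) (v : ↥V) : (↥V →* Fˣ) →* Fˣ where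
  toFun χ := χ v
  map_one' := rfl
  map_mul' _ _ := rfl

theorem tq_sum_eval_apply (V : Subgroup S) (v : ↥V) (χ : ↥V →* Fˣ) :
    tq_sum_eval (F := F) V v χ = χ v := rfl

/-- aux: an odd natural number is `1` in a field of characteristic two. -/
theorem tq_sum_odd_cast [CharP F 2] {n : ℕ} (hn : Odd n) : (n : F) = 1 := by
  obtain ⟨k, rfl⟩ := hn
  have h2 : (2 : F) = 0 := by
    have := CharP.cast_eq_zero F 2
    exact_mod_cast this
  push_cast
  rw [h2, zero_mul, zero_add]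

/-- aux: the inner character sum. -/
theorem tq_sum_inner [CharP F 2] (V : Subgroup S) [Fintype (↥V →* Fˣ)] [DecidableEq ↥V]
    (hsep : ∀ v : V, v ≠ 1 → ∃ χ : ↥V →* Fˣ, χ v ≠ 1)
    (hX : Odd (Fintype.card (↥V →* Fˣ))) (v : ↥V) :
    ∑ χ : ↥V →* Fˣ, ((χ v⁻¹ : Fˣ) : F) = if v = 1 then 1 else 0 := by
  by_cases hv : v = 1
  · rw [if_pos hv, hv]
    simp only [inv_one, map_one, Units.val_one, Finset.sum_const, Finset.card_univ, nsmul_eq_mul,
      mul_one]
    exact tq_sum_odd_cast hX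
  · rw [if_neg hv]
    have hne : tq_sum_eval (F := F) V v⁻¹ ≠ 1 := by
      intro h
      obtain ⟨χ, hχ⟩ := hsep v hv
      apply hχ
      have h1 : tq_sum_eval (F := F) V v⁻¹ χ = 1 := by rw [h]; rfl
      rw [tq_sum_eval_apply, map_inv, inv_eq_one] at h1
      exact h1
    have := sum_char_eq_zero (F := F) (tq_sum_eval (F := F) V v⁻¹) hne
    simpa [tq_sum_eval_apply] using this

theorem sum_idem [CharP F 2] (r : Representation F S M) (V : Subgroup S) [Fintype V]
    [Fintype (↥V →* Fˣ)]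
    (hsep : ∀ v : V, v ≠ 1 → ∃ χ : ↥V →* Fˣ, χ v ≠ 1)
    (hX : Odd (Fintype.card (↥V →* Fˣ))) :
    ∑ χ : ↥V →* Fˣ, idem r V χ = 1 := by
  classical
  unfold idem
  rw [Finset.sum_comm]
  have h1 : ∀ v : ↥V, ∑ χ : ↥V →* Fˣ, ((χ v⁻¹ : Fˣ) : F) • r (v : S)
      = (if v = 1 then (1 : F) else 0) • r (v : S) := by
    intro v
    rw [← Finset.sum_smul, tq_sum_inner V hsep hX v]
  rw [Finset.sum_congr rfl (fun v _ => h1 v)]
  rw [Finset.sum_eq_single (1 : ↥V)]
  · rw [if_pos rfl, one_smul, Subgroup.coe_one, map_one]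
  · intro v _ hv
    rw [if_neg hv, zero_smul]
  · intro h
    exact absurd (Finset.mem_univ _) h

end Cfsg.Agent.Helper17.TQ
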