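import Mathlib
import Cfsg.Agent.Lib.TQ.TQDefs

/-! S4414 piece TQ-SUPPCOMB (helper17 design; see plans/S4414_plan.md): the support of a linear
combination of two vectors with disjoint supports.  (helper9) -/

set_option autoImplicit false

namespace Cfsg.Agent.Helper17.TQ

open scoped TensorProduct Pointwise

variable {S : Type*} [Group S] {F : Type*} [Field F] {M : Type*} [AddCommGroup M] [Module F M]

theorem supp_comb (r : Representation F S M) (V : Subgroup S) [Fintype V] (x₁ x₂ : M)
    (hdisj : Disjoint (supp r V x₁) (supp r V x₂)) (a b : F) :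
    supp r V (a • x₁ + b • x₂)
      = {χ | (a ≠ 0 ∧ χ ∈ supp r V x₁) ∨ (b ≠ 0 ∧ χ ∈ supp r V x₂)} := by
  ext χ
  rw [Set.mem_ofPred_eq, mem_supp, mem_supp, mem_supp, map_add, map_smul, map_smul]
  by_cases h1 : idem r V χ x₁ = 0
  · rw [h1, smul_zero, zero_add]
    constructor
    · intro h
      right
      exact smul_ne_zero_iff.1 h
    · rintro (⟨_, h⟩ | h)
      · exact absurd rfl h
      · exact smul_ne_zero_iff.2 h
  · have h2 : idem r V χ x₂ = 0 := by
      by_contra h2
      exact (Set.disjoint_left.1 hdisj) ((mem_supp r V x₁ χ).2 h1) ((mem_supp r V x₂ χ).2 h2)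
    rw [h2, smul_zero, add_zero]
    constructor
    · intro h
      left
      exact smul_ne_zero_iff.1 h
    · rintro (h | ⟨_, h⟩)
      · exact smul_ne_zero_iff.2 h
      · exact absurd rfl h

end Cfsg.Agent.Helper17.TQ
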