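import Mathlib
import Cfsg.Agent.Lib.TQ.TQDefs

/-! S4414 piece TQ-TRIV (helper17 design; see plans/S4414_plan.md): the projection of the trivial
character is the norm map. -/

set_option autoImplicit false

namespace Cfsg.Agent.Helper17.TQ

open scoped TensorProduct Pointwise

variable {S : Type*} [Group S] {F : Type*} [Field F] {M : Type*} [AddCommGroup M] [Module F M]

theorem idem_one (r : Representation F S M) (V : Subgroup S) [Fintype V] :
    idem r V (1 : ↥V →* Fˣ) = ∑ v : V, r (v : S) := by
  unfold idem
  apply Finset.sum_congr rfl
  intro v _
  rw [MonoidHom.one_apply, Units.val_one, one_smul]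

end Cfsg.Agent.Helper17.TQ
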