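import Mathlib
import Cfsg.Agent.Lib.TQ.TQDefs
import Cfsg.Agent.Lib.TQ.TQSUM
import Cfsg.Agent.Lib.TQ.TQTRIV
import Cfsg.Agent.Lib.TQ.TQFREE2
import Cfsg.Agent.Lib.TQ.TQLEMA
import Cfsg.Agent.Lib.TQ.TQLI
import Cfsg.Agent.Lib.TQ.TQCARDLI
import Cfsg.Agent.Lib.TQ.TQSPAN2
import Cfsg.Agent.Lib.TQ.TQSUPPCOMB
import Cfsg.Agent.Lib.TQ.TQLEMD
import Cfsg.Agent.Lib.TQ.TQQDVD
import Cfsg.Agent.Lib.TQ.TQORBQ
import Cfsg.Agent.Lib.TQ.TQORBPOW
import Cfsg.Agent.Lib.TQ.TQORBARITH
import Cfsg.Agent.Lib.TQ.TQLAMINV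
import Cfsg.Agent.Lib.TQ.TQSUPPSMUL

/-! S4414 assembly, part I (helper17): the counting argument over the splitting field. -/

set_option autoImplicit false

namespace Cfsg.Agent.Helper17.TQ

open scoped TensorProduct Pointwise

variable {S : Type*} [Group S] {F : Type*} [Field F] {M : Type*} [AddCommGroup M] [Module F M]

theorem partI [Finite S] [Finite F] [Finite M] [Nontrivial M] [CharP F 2]
    (r : Representation F S M) (V T Q : Subgroup S) [V.Normal] [Fintype V]
    [Fintype (↥V →* Fˣ)]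
    (hsep : ∀ v : V, v ≠ 1 → ∃ χ : ↥V →* Fˣ, χ v ≠ 1)
    (hX : Odd (Fintype.card (↥V →* Fˣ)))
    (hT : IsPGroup 2 T) (q : ℕ) (hq : q.Prime) (hq2 : q ≠ 2) (hQ : Nat.card Q = q)
    (hcomm : ⁅V, Q⁆ = V) (hnorm : ∑ v : V, r (v : S) = 0) :
    Nat.card F ^ 3 ≤ Nat.card (fixT r T) ∨
      (Nat.card F ^ 2 ≤ Nat.card (fixT r T) ∧
        (Nat.card (fixT r T) = Nat.card F ^ 2 →
          ∃ g ∈ Q, ∃ x ∈ fixT r T, r g x ∉ fixT r T)) := by
  classical
  have hsum := sum_idem r V hsep hX
  set Lam : Set (↥V →* Fˣ) := {χ | idem r V χ ≠ 0} with hLam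
  have hLamfin : Lam.Finite := Set.toFinite _
  have hLamne : Lam.Nonempty := by
    by_contra hcon
    rw [Set.not_nonempty_iff_eq_empty] at hcon
    have hall : ∀ χ : ↥V →* Fˣ, idem r V χ = 0 := by
      intro χ
      by_contra h
      have hmem : χ ∈ Lam := h
      rw [hcon] at hmem
      exact hmem
    have h1 : (1 : M →ₗ[F] M) = 0 := by
      rw [← hsum]
      exact Finset.sum_eq_zero (fun χ _ => hall χ)
    obtain ⟨m, hm⟩ := exists_ne (0 : M)
    apply hm
    have := LinearMap.congr_fun h1 m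
    simpa using this
  have hLaminv : ∀ s : S, ∀ χ ∈ Lam, s • χ ∈ Lam := fun s χ h => idem_smul_ne_zero r V s χ h
  have hone : (1 : ↥V →* Fˣ) ∉ Lam := by
    intro h
    apply h
    rw [idem_one]
    exact hnorm
  have hfree : ∀ g ∈ Q, g ≠ 1 → ∀ χ ∈ Lam, g • χ ≠ χ := by
    intro g hg hg1 χ hχ
    apply smul_char_ne V Q q hq hQ hcomm χ _ g hg hg1
    rintro rfl
    exact hone hχ
  have hdvd : q ∣ Lam.ncard :=
    prime_dvd_ncard_of_free Q q hq hQ Lam hLamfin (fun g _ a ha => hLaminv g a ha) hfree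
  have hTinv : ∀ g : ↥T, ∀ a ∈ Lam, g • a ∈ Lam := fun g a ha => hLaminv (g : S) a ha
  have horbLam : ∀ a ∈ Lam, MulAction.orbit (↥T) a ⊆ Lam := by
    intro a ha b hb
    obtain ⟨t, rfl⟩ := hb
    exact hTinv t a ha
  rcases orbit_arith (G := ↥T) hT Lam hLamfin hLamne hTinv q hq hq2 hdvd with
    ⟨a, b, c, ha, hb, hc, hab, hac, hbc⟩ | ⟨a, b, ha, hb, hab, hcard⟩
  · left
    obtain ⟨xa, hxa, hsa⟩ := exists_fixed_with_supp r V hsum T hT a ha
    obtain ⟨xb, hxb, hsb⟩ := exists_fixed_with_supp r V hsum T hT b hb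
    obtain ⟨xc, hxc, hsc⟩ := exists_fixed_with_supp r V hsum T hT c hc
    have hli : LinearIndependent F ![xa, xb, xc] := by
      apply linearIndependent_of_disjoint_supp r V
      · intro i
        fin_cases i
        · exact ⟨a, by simp [hsa]⟩
        · exact ⟨b, by simp [hsb]⟩
        · exact ⟨c, by simp [hsc]⟩
      · intro i j hij
        fin_cases i <;> fin_cases j <;> simp at hij <;> simp [hsa, hsb, hsc] <;>
          first
          | exact hab
          | exact hac
          | exact hbc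
          | exact hab.symm
          | exact hac.symm
          | exact hbc.symm
    refine card_pow_le_of_linearIndependent (fixT r T) ![xa, xb, xc] ?_ hli
    intro i
    fin_cases i
    · exact hxa
    · exact hxb
    · exact hxc
  · right
    obtain ⟨xa, hxa, hsa⟩ := exists_fixed_with_supp r V hsum T hT a ha
    obtain ⟨xb, hxb, hsb⟩ := exists_fixed_with_supp r V hsum T hT b hb
    have hli : LinearIndependent F ![xa, xb] := by
      apply linearIndependent_of_disjoint_supp r V
      · intro i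
        fin_cases i
        · exact ⟨a, by simp [hsa]⟩
        · exact ⟨b, by simp [hsb]⟩
      · intro i j hij
        fin_cases i <;> fin_cases j <;> simp at hij <;> simp [hsa, hsb] <;>
          first
          | exact hab
          | exact hab.symm
    refine ⟨?_, ?_⟩
    · refine card_pow_le_of_linearIndependent (fixT r T) ![xa, xb] ?_ hli
      intro i
      fin_cases i
      · exact hxa
      · exact hxb
    · intro hcardeq
      by_contra hno
      push Not at hno
      -- a nontrivial element of Q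
      have hQne : Q ≠ ⊥ := by
        intro hbot
        rw [hbot] at hQ
        simp at hQ
        exact hq.one_lt.ne' hQ.symm
      obtain ⟨g, hgQ, hg1⟩ := (Subgroup.ne_bot_iff_exists_ne_one (H := Q)).mp hQne |>.imp
        (fun g h => h) |> fun ⟨g, hg⟩ => (⟨(g : S), g.2, fun h => hg (Subtype.ext h)⟩ :
          ∃ g : S, g ∈ Q ∧ g ≠ 1)
      have hy : r g xa ∈ fixT r T := hno g hgQ xa hxa
      obtain ⟨α, β, hαβ⟩ := mem_span_pair_of_card (fixT r T) xa xb hxa hxb hli hcardeq _ hy
      have hdisj : Disjoint (supp r V xa) (supp r V xb) := by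
        rw [hsa, hsb]
        exact hab
      have h1 : supp r V (r g xa) = g • MulAction.orbit (↥T) a := by
        rw [supp_smul, hsa]
      have h2 := supp_comb r V xa xb hdisj α β
      rw [← hαβ, h1, hsa, hsb] at h2
      have hfa : (MulAction.orbit (↥T) a).Finite := Set.toFinite _
      have hfb : (MulAction.orbit (↥T) b).Finite := Set.toFinite _
      have h3 : g • MulAction.orbit (↥T) a = MulAction.orbit (↥T) a :=
        smul_set_eq_of_comb g _ _ hfa hfb hab hcard (α ≠ 0) (β ≠ 0) h2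
      have h4 := invariant_of_prime_card Q q hq hQ g hgQ hg1 _ h3
      have h5 : q ∣ (MulAction.orbit (↥T) a).ncard :=
        prime_dvd_ncard_of_free Q q hq hQ _ hfa h4
          (fun h hh hh1 χ hχ => hfree h hh hh1 χ (horbLam a ha hχ))
      obtain ⟨n, hn⟩ := orbit_ncard_two_pow hT a hfa
      rw [hn] at h5
      have h6 := hq.dvd_of_dvd_pow h5
      exact hq2 ((Nat.prime_dvd_prime_iff_eq hq Nat.prime_two).mp h6)

end Cfsg.Agent.Helper17.TQ
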