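import Mathlib
import Cfsg.Agent.Lib.TQ.TQDefs

/-! S4414 piece TQ-VAB (helper17). -/

set_option autoImplicit false

namespace Cfsg.Agent.Helper17.TQ

open scoped TensorProduct Pointwise

variable {S : Type*} [Group S] {F : Type*} [Field F] {M : Type*} [AddCommGroup M] [Module F M]

theorem comm_of_card (V : Subgroup S) (p : ℕ) (hp : p.Prime)
    (h : Nat.card V = p ∨ Nat.card V = p ^ 2) : ∀ a b : V, a * b = b * a := by
  have : Fact p.Prime := ⟨hp⟩
  rcases h with h | h
  · have : IsCyclic V := isCyclic_of_prime_card h
    intro a b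
    exact IsCyclic.commGroup.mul_comm a b
  · have := IsPGroup.isMulCommutative_of_card_eq_prime_sq (p := p) (G := V) h
    intro a b
    exact this.is_comm.comm a b

end Cfsg.Agent.Helper17.TQ
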