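import Mathlib
import Cfsg.Agent.Lib.TQ.TQDefs
import Cfsg.Agent.Lib.TQ.TQPARTI
import Cfsg.Agent.Lib.TQ.TQBCCARD
import Cfsg.Agent.Lib.TQ.TQBCINV
import Cfsg.Agent.Lib.TQ.TQBCSUM
import Cfsg.Agent.Lib.TQ.TQBCFIN
import Cfsg.Agent.Lib.TQ.TQNORMZERO
import Cfsg.Agent.Lib.TQ.TQFIELD
import Cfsg.Agent.Lib.TQ.TQCHARSEP
import Cfsg.Agent.Lib.TQ.TQVAB

/-! S4414 final assembly (helper17). -/

set_option autoImplicit false

namespace Cfsg.Agent.Helper17.TQ

open scoped TensorProduct Pointwise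

theorem tq_final {S : Type*} [Group S] [Finite S] (p q : ℕ) (hp : p.Prime) (hq : q.Prime)
    (hp2 : p ≠ 2) (hq2 : q ≠ 2) (T V Q : Subgroup S) (hT : IsPGroup 2 T) (hVn : V.Normal)
    (hVcard : Nat.card V = p ∨ Nat.card V = p ^ 2) (hQ : Nat.card Q = q) (hcomm : ⁅V, Q⁆ = V)
    {E : Type*} [AddCommGroup E] [Module (ZMod 2) E] [Finite E]
    (ρ : Representation (ZMod 2) S E) (hE : Nontrivial E)
    (hirr : ∀ N : Submodule (ZMod 2) E, (∀ s : S, ∀ m ∈ N, ρ s m ∈ N) → N = ⊥ ∨ N = ⊤)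
    (hfaith : ∀ x ∈ V, ρ x = 1 → x = 1) :
    8 ≤ Nat.card {v : E // ∀ s ∈ T, ρ s v = v} ∨
      (Nat.card {v : E // ∀ s ∈ T, ρ s v = v} = 4 ∧
        ∃ x ∈ Q, ∃ v : E, (∀ s ∈ T, ρ s v = v) ∧ ¬ ∀ s ∈ T, ρ s (ρ x v) = ρ x v) := by
  classical
  have := hVn
  have : Fintype V := Fintype.ofFinite V
  have hpodd : Odd p := hp.odd_of_ne_two hp2
  have hVodd : Odd (Nat.card V) := by
    rcases hVcard with h | h
    · rw [h]; exact hpodd
    · rw [h]; exact hpodd.pow
  have hVne : V ≠ ⊥ := by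
    intro h
    rw [h] at hVcard
    simp only [Subgroup.card_bot] at hVcard
    rcases hVcard with h | h
    · exact hp.one_lt.ne' h.symm
    · have h2 : 1 < p ^ 2 := Nat.one_lt_pow (by norm_num) hp.one_lt
      omega
  have hVc := comm_of_card V p hp hVcard
  obtain ⟨k, hk0, hroots⟩ := exists_galois_roots (Nat.card V) hVodd
  have := hroots
  obtain ⟨hsep, hcardX⟩ := char_sep (F := GaloisField 2 k) V hVc
  have : Fintype (↥V →* (GaloisField 2 k)ˣ) := Fintype.ofFinite _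
  have : Finite (GaloisField 2 k ⊗[ZMod 2] E) := finite_bc
  have : Nontrivial (GaloisField 2 k ⊗[ZMod 2] E) := nontrivial_bc
  have hnorm0 := norm_eq_zero ρ V hVne hirr hfaith
  have hnorm := bc_sum_eq_zero (K := GaloisField 2 k) ρ V hnorm0
  have hX : Odd (Fintype.card (↥V →* (GaloisField 2 k)ˣ)) := by
    rw [Fintype.card_eq_nat_card, hcardX]
    exact hVodd
  have hI := partI (bc (GaloisField 2 k) ρ) V T Q hsep hX hT q hq hq2 hQ hcomm hnorm
  have hcardK : Nat.card (GaloisField 2 k) = 2 ^ k := GaloisField.card 2 k hk0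
  have hfr : Module.finrank (ZMod 2) (GaloisField 2 k) = k := GaloisField.finrank 2 hk0
  have hbc := card_fixT_bc (K := GaloisField 2 k) ρ T
  rw [hfr] at hbc
  have hcc : Nat.card {v : E // ∀ s ∈ T, ρ s v = v} = Nat.card (fixT ρ T) := rfl
  rw [hcc]
  have hcpow : Nat.card (fixT ρ T) = 2 ^ Module.finrank (ZMod 2) (fixT ρ T) := by
    rw [Module.natCard_eq_pow_finrank (K := ZMod 2) (V := fixT ρ T), Nat.card_zmod]
  rw [hbc, hcardK] at hI
  set c := Nat.card (fixT ρ T) with hc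
  set d := Module.finrank (ZMod 2) (fixT ρ T) with hd
  have h8 : (2 ^ k) ^ 3 = 8 ^ k := by
    rw [← pow_mul, mul_comm, pow_mul]; norm_num
  have h4 : (2 ^ k) ^ 2 = 4 ^ k := by
    rw [← pow_mul, mul_comm, pow_mul]; norm_num
  rcases hI with h1 | ⟨h1, h2⟩
  · left
    by_contra hlt
    have hlt' : c < 8 := not_le.mp hlt
    have := Nat.pow_lt_pow_left hlt' hk0
    rw [h8] at h1
    omega
  · have hc4 : 4 ≤ c := by
      by_contra hlt
      have hlt' : c < 4 := not_le.mp hlt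
      have := Nat.pow_lt_pow_left hlt' hk0
      rw [h4] at h1
      omega
    by_cases hd3 : 3 ≤ d
    · left
      rw [hcpow]
      calc 8 = 2 ^ 3 := by norm_num
        _ ≤ 2 ^ d := Nat.pow_le_pow_right (by norm_num) hd3
    · right
      have hd2 : d = 2 := by
        have : 2 ≤ d := by
          by_contra hlt
          have hd1 : d ≤ 1 := by omega
          have : c ≤ 2 ^ 1 := by
            rw [hcpow]
            exact Nat.pow_le_pow_right (by norm_num) hd1
          omega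
        omega
      have hc4' : c = 4 := by rw [hcpow, hd2]; norm_num
      refine ⟨hc4', ?_⟩
      have heq : c ^ k = (2 ^ k) ^ 2 := by rw [hc4', h4]
      obtain ⟨g, hgQ, x, hx, hgx⟩ := h2 heq
      have hnot : ¬ ∀ v ∈ fixT ρ T, ρ g v ∈ fixT ρ T := by
        intro hall
        exact hgx (bc_invariant (K := GaloisField 2 k) ρ T g hall x hx)
      push Not at hnot
      obtain ⟨v, hv, hgv⟩ := hnot
      exact ⟨g, hgQ, v, hv, hgv⟩

end Cfsg.Agent.Helper17.TQ
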