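import Mathlib
import Cfsg.Agent.Lib.TQ.TQDefs
import Cfsg.Agent.Lib.TQ.TQCONJ

/-! S4414 piece TQ-LAMINV (helper17 design; see plans/S4414_plan.md); proved by helper18:
`e_χ ≠ 0 → e_{s χ} ≠ 0` from `r s * e_χ = e_{s χ} * r s`. -/

set_option autoImplicit false

namespace Cfsg.Agent.Helper17.TQ

open scoped TensorProduct Pointwise

variable {S : Type*} [Group S] {F : Type*} [Field F] {M : Type*} [AddCommGroup M] [Module F M]

theorem idem_smul_ne_zero (r : Representation F S M) (V : Subgroup S) [V.Normal] [Fintype V]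
    (s : S) (χ : ↥V →* Fˣ) (h : idem r V χ ≠ 0) : idem r V (s • χ) ≠ 0 := by
  intro h0
  apply h
  have hc : r s * idem r V χ = idem r V (s • χ) * r s := idem_conj r V s χ
  rw [h0, zero_mul] at hc
  have h1 : r s⁻¹ * (r s * idem r V χ) = 0 := by rw [hc, mul_zero]
  rw [← mul_assoc, ← map_mul, inv_mul_cancel, map_one, one_mul] at h1
  exact h1

end Cfsg.Agent.Helper17.TQ
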